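import Cfsg.Agent.H106.RC.Cover
import Cfsg.Agent.H867.RC.Spor

/-!
# Fixed point ratios and covers (helper345, S3509 sporadic block)

* `orb_le` : `o(A) + o(B) ≤ |Ω| + o(A ⊔ B)`, `o` = number of orbits;
* `F2` : if conjugates of `x` generate a group containing `N` then `x` has few fixed points;
* `F1` : at most `|C_N(x)|` fixed points in an orbit of `N`;
* `F3` : `x` normalises `⟨y⟩`, `y` of prime order `r`, not centralised: `r |Fix x| ≤ r |Fix y| + |Ω|`;
* `sum_ge` : a cover has fixed point ratios of sum at least one.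
-/

set_option autoImplicit false

namespace Cfsg.Agent.H345.RG

open MulAction Cfsg.Agent.H106.RC

section orbits

variable {G Ω : Type*} [Group G] [MulAction G Ω]

/-- number of orbits -/
noncomputable def nOrb (Ω : Type*) [MulAction G Ω] (A : Subgroup G) : ℕ := Nat.card (orbitRel.Quotient A Ω)

/-- invariant functions -/
def Inv (Ω : Type*) [MulAction G Ω] (A : Subgroup G) : Submodule ℚ (Ω → ℚ) where
  carrier := {φ | ∀ a ∈ A, ∀ ω, φ (a • ω) = φ ω}
  add_mem' := fun {φ ψ} hφ hψ a ha ω => by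
    show φ (a • ω) + ψ (a • ω) = φ ω + ψ ω
    rw [hφ a ha, hψ a ha]
  zero_mem' := fun _ _ _ => rfl
  smul_mem' := fun c φ hφ a ha ω => by
    show c * φ (a • ω) = c * φ ω
    rw [hφ a ha]

theorem mem_Inv {A : Subgroup G} {φ : Ω → ℚ} : φ ∈ Inv Ω A ↔ ∀ a ∈ A, ∀ ω, φ (a • ω) = φ ω := Iff.rfl

theorem Inv_sup (A B : Subgroup G) : Inv Ω (A ⊔ B) = Inv Ω A ⊓ Inv Ω B := by
  apply le_antisymm
  · intro φ hφ
    exact ⟨fun a ha => hφ a (Subgroup.mem_sup_left ha), fun a ha => hφ a (Subgroup.mem_sup_right ha)⟩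
  · rintro φ ⟨h1, h2⟩
    have h3 : A ⊔ B ≤ ({
        carrier := {g : G | ∀ ω, φ (g • ω) = φ ω}
        one_mem' := fun ω => by rw [one_smul]
        mul_mem' := fun {a b} ha hb ω => by rw [mul_smul, ha, hb]
        inv_mem' := fun {a} ha ω => by
          have := ha (a⁻¹ • ω)
          rw [smul_inv_smul] at this
          exact this.symm } : Subgroup G) := sup_le (fun a ha => h1 a ha) fun b hb => h2 b hb
    exact fun g hg => h3 hg

/-- the space of invariant functions has the number of orbits as dimension -/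
theorem finrank_Inv [Finite Ω] (A : Subgroup G) : Module.finrank ℚ (Inv Ω A) = nOrb Ω A := by
  classical
  let e : (orbitRel.Quotient A Ω → ℚ) ≃ₗ[ℚ] Inv Ω A :=
    { toFun := fun f => ⟨fun ω => f (Quotient.mk'' ω), fun a ha ω => by
        have : (Quotient.mk'' (a • ω) : orbitRel.Quotient A Ω) = Quotient.mk'' ω :=
          Quotient.sound' (show (a • ω) ∈ orbit A ω from ⟨⟨a, ha⟩, rfl⟩)
        show f _ = f _
        rw [this]⟩
      map_add' := fun _ _ => rfl
      map_smul' := fun _ _ => rfl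
      invFun := fun φ => Quotient.lift (fun ω => (φ : Ω → ℚ) ω) (by
        rintro ω ω' h
        obtain ⟨a, rfl⟩ := (show ω ∈ orbit A ω' from h)
        exact φ.2 a a.2 ω')
      left_inv := fun f => by
        ext q
        induction q using Quotient.inductionOn'
        rfl
      right_inv := fun φ => by
        ext ω
        rfl }
  have : Fintype (orbitRel.Quotient A Ω) := Fintype.ofFinite _
  rw [← e.finrank_eq, Module.finrank_fintype_fun_eq_card, nOrb, Nat.card_eq_fintype_card]

theorem orb_le [Finite Ω] (A B : Subgroup G) : nOrb Ω A + nOrb Ω B ≤ Nat.card Ω + nOrb Ω (A ⊔ B) := by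
  have : Fintype Ω := Fintype.ofFinite Ω
  rw [← finrank_Inv, ← finrank_Inv, ← finrank_Inv, Inv_sup, ← Submodule.finrank_sup_add_finrank_inf_eq]
  have h : Module.finrank ℚ ↥(Inv Ω A ⊔ Inv Ω B) ≤ Nat.card Ω := by
    refine (Submodule.finrank_le _).trans ?_
    rw [Module.finrank_fintype_fun_eq_card, Nat.card_eq_fintype_card]
  omega

theorem nOrb_anti [Finite Ω] {A B : Subgroup G} (h : A ≤ B) : nOrb Ω B ≤ nOrb Ω A := by
  rw [← finrank_Inv, ← finrank_Inv]
  exact Submodule.finrank_mono fun φ hφ a ha => hφ a (h ha)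

theorem nOrb_bot [Finite Ω] : nOrb Ω (⊥ : Subgroup G) = Nat.card Ω := by
  have : Fintype Ω := Fintype.ofFinite Ω
  have h1 : Inv Ω (⊥ : Subgroup G) = ⊤ := by
    rw [eq_top_iff]
    intro φ _ a ha ω
    rw [Subgroup.mem_bot.1 ha, one_smul]
  rw [← finrank_Inv, h1, finrank_top, Module.finrank_fintype_fun_eq_card, Nat.card_eq_fintype_card]

/-- the number of orbits of an element of prime order -/
theorem nOrb_zpowers [Finite Ω] [Finite G] {x : G} {p : ℕ} (hp : p.Prime) (hx : x ^ p = 1) (hx1 : x ≠ 1) :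
    p * nOrb Ω (Subgroup.zpowers x) = Nat.card Ω + (p - 1) * Nat.card (fixedBy Ω x) := by
  classical
  have := Fact.mk hp
  have : Fintype Ω := Fintype.ofFinite Ω
  have : Fintype (Subgroup.zpowers x) := Fintype.ofFinite _
  have : Fintype (orbitRel.Quotient (Subgroup.zpowers x) Ω) := Fintype.ofFinite _
  have hB := sum_card_fixedBy_eq_card_orbits_mul_card_group (Subgroup.zpowers x) Ω
  have hox : orderOf x = p := orderOf_eq_prime hx hx1
  have hc : Fintype.card (Subgroup.zpowers x) = p := by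
    rw [← Nat.card_eq_fintype_card, Nat.card_zpowers, hox]
  have hfix : ∀ g : Subgroup.zpowers x, g ≠ 1 → Fintype.card (fixedBy Ω g) = Nat.card (fixedBy Ω x) := by
    intro g hg
    rw [← Nat.card_eq_fintype_card]
    congr 2
    ext ω
    have hgx : x ∈ Subgroup.zpowers (g : G) := by
      have h1 : Subgroup.zpowers (g : G) ≤ Subgroup.zpowers x := Subgroup.zpowers_le.2 g.2
      have h2 : (g : G) ≠ 1 := fun h => hg (Subtype.ext h)
      have h3 : orderOf (g : G) = p := by
        refine orderOf_eq_prime ?_ h2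
        obtain ⟨k, hk⟩ := Subgroup.mem_zpowers_iff.1 g.2
        rw [← hk, ← zpow_natCast, ← zpow_mul, mul_comm, zpow_mul, zpow_natCast, hx, one_zpow]
      have h4 : Subgroup.zpowers (g : G) = Subgroup.zpowers x :=
        Subgroup.eq_of_le_of_card_ge h1 (by rw [Nat.card_zpowers, Nat.card_zpowers, hox, h3])
      rw [h4]
      exact Subgroup.mem_zpowers x
    constructor
    · intro h
      obtain ⟨k, hk⟩ := Subgroup.mem_zpowers_iff.1 hgx
      have h1 : (g : G) ∈ stabilizer G ω := h
      have h2 := Subgroup.zpow_mem _ h1 k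
      rw [hk] at h2
      exact h2
    · intro h
      obtain ⟨k, hk⟩ := Subgroup.mem_zpowers_iff.1 g.2
      have h1 : x ∈ stabilizer G ω := h
      have h2 := Subgroup.zpow_mem _ h1 k
      rw [hk] at h2
      exact h2
  rw [hc, ← Finset.add_sum_erase _ _ (Finset.mem_univ (1 : Subgroup.zpowers x)),
    Finset.sum_congr rfl (fun g hg => hfix g (Finset.ne_of_mem_erase hg)), Finset.sum_const,
    Finset.card_erase_of_mem (Finset.mem_univ _), Finset.card_univ, hc, smul_eq_mul] at hB
  have h1 : Fintype.card (fixedBy Ω (1 : Subgroup.zpowers x)) = Nat.card Ω := by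
    rw [← Nat.card_eq_fintype_card]
    exact Nat.card_congr ((Equiv.subtypeUnivEquiv fun ω => one_smul _ ω))
  rw [h1] at hB
  rw [hB, nOrb, Nat.card_eq_fintype_card, mul_comm]

/-- conjugates have as many fixed points -/
theorem fix_conj (c x : G) : Nat.card (fixedBy Ω (c * x * c⁻¹)) = Nat.card (fixedBy Ω x) := by
  refine Nat.card_congr ⟨fun ω => ⟨c⁻¹ • ω.1, ?_⟩, fun ω => ⟨c • ω.1, ?_⟩, fun ω => ?_, fun ω => ?_⟩
  · have h : (c * x * c⁻¹) • ω.1 = ω.1 := ω.2
    show x • c⁻¹ • ω.1 = c⁻¹ • ω.1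
    rw [eq_inv_smul_iff, ← mul_smul, ← mul_smul]
    exact h
  · have h : x • ω.1 = ω.1 := ω.2
    show (c * x * c⁻¹) • c • ω.1 = c • ω.1
    rw [← mul_smul, inv_mul_cancel_right, mul_smul, h]
  · exact Subtype.ext (smul_inv_smul c ω.1)
  · exact Subtype.ext (inv_smul_smul c ω.1)

end orbits

section fpr

variable {G Ω : Type*} [Group G] [MulAction G Ω] {N : Subgroup G}

/-- every `N`-orbit has at least `m` points -/
def Big (Ω : Type*) [MulAction G Ω] (N : Subgroup G) (m : ℕ) : Prop := ∀ ω : Ω, m ≤ Nat.card (orbit N ω)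

theorem Big.nOrb_le [Finite Ω] {m : ℕ} (h : Big Ω N m) : m * nOrb Ω N ≤ Nat.card Ω := by
  classical
  have : Fintype (orbitRel.Quotient N Ω) := Fintype.ofFinite _
  have e : Ω ≃ Σ q : orbitRel.Quotient N Ω, orbitRel.Quotient.orbit q := selfEquivSigmaOrbits' N Ω
  rw [Nat.card_congr e, Nat.card_sigma, nOrb, Nat.card_eq_fintype_card, mul_comm, ← smul_eq_mul,
    ← Finset.card_univ, ← Finset.sum_const]
  refine Finset.sum_le_sum fun q _ => ?_
  induction q using Quotient.inductionOn'
  exact h _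

/-- the subgroup generated by the conjugates `c x c⁻¹`, `c ∈ L` -/
def Gen (x : G) (L : List G) : Subgroup G := Subgroup.closure {y | ∃ c ∈ L, y = c * x * c⁻¹}

theorem Gen_cons (x c : G) (L : List G) : Gen x (c :: L) = Subgroup.zpowers (c * x * c⁻¹) ⊔ Gen x L := by
  rw [Gen, Gen, Subgroup.zpowers_eq_closure, ← Subgroup.closure_union]
  congr 1
  ext y
  simp only [List.mem_cons, exists_eq_or_imp, Set.mem_ofPred_eq, Set.mem_union, Set.mem_singleton_iff]

theorem nOrb_Gen [Finite Ω] [Finite G] {x : G} {p : ℕ} (hp : p.Prime) (hx : x ^ p = 1) (hx1 : x ≠ 1) (L : List G)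
    (hL : L ≠ []) : (L.length : ℚ) * ((Nat.card Ω : ℚ) + (p - 1) * Nat.card (fixedBy Ω x)) ≤
      p * (((L.length : ℚ) - 1) * Nat.card Ω + nOrb Ω (Gen x L)) := by
  induction L with
  | nil => exact absurd rfl hL
  | cons c L ih =>
    have h1 : p * nOrb Ω (Subgroup.zpowers (c * x * c⁻¹)) =
        Nat.card Ω + (p - 1) * Nat.card (fixedBy Ω x) := by
      rw [nOrb_zpowers hp (by rw [conj_pow, hx, mul_one, mul_inv_cancel]) (by
        rw [ne_eq, conj_eq_one_iff]; exact hx1), fix_conj]
    have hp1 : 1 ≤ p := hp.one_lt.le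
    have h1' : (p : ℚ) * nOrb Ω (Subgroup.zpowers (c * x * c⁻¹)) =
        Nat.card Ω + (p - 1) * Nat.card (fixedBy Ω x) := by
      have := congrArg (fun t : ℕ => (t : ℚ)) h1
      push_cast [Nat.cast_sub hp1] at this
      exact this
    have h2 := orb_le (Ω := Ω) (Subgroup.zpowers (c * x * c⁻¹)) (Gen x L)
    rw [← Gen_cons] at h2
    have h2' : (nOrb Ω (Subgroup.zpowers (c * x * c⁻¹)) : ℚ) + nOrb Ω (Gen x L) ≤
        Nat.card Ω + nOrb Ω (Gen x (c :: L)) := by exact_mod_cast h2
    have hp0 : (0 : ℚ) ≤ p := Nat.cast_nonneg p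
    have h3 := mul_le_mul_of_nonneg_left h2' hp0
    rw [List.length_cons]
    push_cast
    rcases eq_or_ne L [] with rfl | hL'
    · have h4 : nOrb Ω (Gen x ([] : List G)) = Nat.card Ω := by
        have : Gen x ([] : List G) = ⊥ := by
          rw [Gen]
          simp
        rw [this, nOrb_bot]
      rw [h4] at h3
      simp only [List.length_nil, Nat.cast_zero]
      nlinarith [h1', h3]
    · have h5 := ih hL'
      nlinarith [h1', h3, h5]

/-- fixed point ratio -/
noncomputable def fpr (Ω : Type*) [MulAction G Ω] (x : G) : ℚ := (Nat.card (fixedBy Ω x) : ℚ) / Nat.card Ω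

theorem fpr_conj (c x : G) : fpr Ω (c * x * c⁻¹) = fpr Ω x := by rw [fpr, fpr, fix_conj]

theorem fpr_nonneg (x : G) : 0 ≤ fpr Ω x := by unfold fpr; positivity

/-- **F2** : the conjugates `c x c⁻¹`, `c ∈ L`, of `x` (of prime order `p`) generate a group containing `N`; then
`fpr x ≤ 1 - p (1 - 1/m) / (k (p - 1))`, `k = |L|`. -/
theorem F2 [Finite Ω] [Nonempty Ω] [Finite G] {m : ℕ} (hm : 0 < m) (hB : Big Ω N m) {x : G} {p : ℕ} (hp : p.Prime)
    (hx : x ^ p = 1) (hx1 : x ≠ 1) (L : List G) (hL : L ≠ []) (h : N ≤ Gen x L) :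
    fpr Ω x ≤ 1 - p * (1 - 1 / m) / (L.length * (p - 1)) := by
  have h1 := nOrb_Gen (Ω := Ω) hp hx hx1 L hL
  have h2 : (nOrb Ω (Gen x L) : ℚ) ≤ nOrb Ω N := by exact_mod_cast nOrb_anti (Ω := Ω) h
  have h3 : (m : ℚ) * nOrb Ω N ≤ Nat.card Ω := by exact_mod_cast hB.nOrb_le
  have hn : (0 : ℚ) < Nat.card Ω := by exact_mod_cast (Nat.card_pos : 0 < Nat.card Ω)
  have hm' : (0 : ℚ) < m := by exact_mod_cast hm
  have hk : (0 : ℚ) < L.length := by exact_mod_cast List.length_pos_iff.2 hL
  have hp1 : (0 : ℚ) < (p : ℚ) - 1 := by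
    have : (1 : ℚ) < p := by exact_mod_cast hp.one_lt
    linarith
  have hp0 : (0 : ℚ) < p := by linarith
  have h4 : (nOrb Ω N : ℚ) ≤ Nat.card Ω / m := by
    rw [le_div_iff₀ hm', mul_comm]
    exact h3
  rw [fpr, div_le_iff₀ hn]
  have h5 : (L.length : ℚ) * ((Nat.card Ω : ℚ) + (p - 1) * Nat.card (fixedBy Ω x)) ≤
      p * (((L.length : ℚ) - 1) * Nat.card Ω + Nat.card Ω / m) :=
    h1.trans (mul_le_mul_of_nonneg_left (by linarith) hp0.le)
  have h6 : (0 : ℚ) < L.length * (p - 1) := mul_pos hk hp1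
  rw [← mul_le_mul_iff_right₀ h6]
  have h7 : (L.length * ((p : ℚ) - 1)) * ((1 - p * (1 - 1 / m) / (L.length * (p - 1))) * Nat.card Ω) =
      (L.length * ((p : ℚ) - 1)) * Nat.card Ω - p * (1 - 1 / m) * Nat.card Ω := by
    field_simp
  rw [h7]
  have h8 : (p : ℚ) * (((L.length : ℚ) - 1) * Nat.card Ω + Nat.card Ω / m) =
      p * L.length * Nat.card Ω - p * (1 - 1 / m) * Nat.card Ω := by ring
  rw [h8] at h5
  nlinarith [h5]

/-- **F1** : `fpr x ≤ |C_N(x)| / m` -/
theorem F1 [Finite Ω] [Finite G] {m : ℕ} (hm : 0 < m) (hB : Big Ω N m) (hN : N.Normal) (x : G) :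
    fpr Ω x ≤ (Nat.card ↥(N ⊓ Subgroup.centralizer ({x} : Set G)) : ℚ) / m := by
  classical
  set C := Nat.card ↥(N ⊓ Subgroup.centralizer ({x} : Set G)) with hC
  have : Fintype (orbitRel.Quotient N Ω) := Fintype.ofFinite _
  have h1 : Nat.card (fixedBy Ω x) ≤ nOrb Ω N * C := by
    let F : orbitRel.Quotient N Ω → Type _ := fun q => {w : Ω // (Quotient.mk'' w : orbitRel.Quotient N Ω) = q ∧ x • w = w}
    have e : fixedBy Ω x ≃ Σ q : orbitRel.Quotient N Ω, F q :=
      { toFun := fun w => ⟨Quotient.mk'' w.1, ⟨w.1, rfl, w.2⟩⟩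
        invFun := fun s => ⟨s.2.1, s.2.2.2⟩
        left_inv := fun w => rfl
        right_inv := by
          rintro ⟨q, w, rfl, hw⟩
          rfl }
    rw [Nat.card_congr e, Nat.card_sigma, nOrb, Nat.card_eq_fintype_card, ← smul_eq_mul, ← Finset.card_univ,
      ← Finset.sum_const]
    refine Finset.sum_le_sum fun q _ => ?_
    induction q using Quotient.inductionOn' with
    | _ ω =>
      refine le_trans (le_of_eq (Nat.card_congr (Equiv.subtypeEquivRight fun w => ?_)))
        (Cfsg.Agent.H867.RC.card_fix_le x ω (by rw [Subgroup.normalizer_eq_top_iff.2 hN]; trivial))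
      rw [Quotient.eq'']
      rfl
  rcases isEmpty_or_nonempty Ω with h0 | h0
  · rw [fpr, Nat.card_of_isEmpty (α := Ω), Nat.cast_zero, div_zero]
    positivity
  have hn : (0 : ℚ) < Nat.card Ω := by exact_mod_cast (Nat.card_pos : 0 < Nat.card Ω)
  have hm' : (0 : ℚ) < m := by exact_mod_cast hm
  have h3 : (m : ℚ) * nOrb Ω N ≤ Nat.card Ω := by exact_mod_cast hB.nOrb_le
  have h1' : (Nat.card (fixedBy Ω x) : ℚ) ≤ nOrb Ω N * C := by exact_mod_cast h1
  have hC0 : (0 : ℚ) ≤ C := Nat.cast_nonneg _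
  rw [fpr, div_le_div_iff₀ hn hm']
  calc (Nat.card (fixedBy Ω x) : ℚ) * m ≤ (nOrb Ω N * C) * m := mul_le_mul_of_nonneg_right h1' hm'.le
    _ = C * (m * nOrb Ω N) := by ring
    _ ≤ C * Nat.card Ω := mul_le_mul_of_nonneg_left h3 hC0

/-- **F3** : `x` normalises `⟨y⟩`, `y` of prime order `r`, and does not centralise it -/
theorem F3 [Finite Ω] {x y : G} {r a : ℕ} (hr : r.Prime) (hy : y ^ r = 1) (h : x * y * x⁻¹ = y ^ a)
    (ha : ¬ a ≡ 1 [MOD r]) : fpr Ω x ≤ fpr Ω y + 1 / r := by
  classical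
  rcases isEmpty_or_nonempty Ω with h0 | h0
  · rw [fpr, fpr, Nat.card_of_isEmpty (α := Ω), Nat.cast_zero, div_zero, div_zero]
    positivity
  have hn : (0 : ℚ) < Nat.card Ω := by exact_mod_cast (Nat.card_pos : 0 < Nat.card Ω)
  have hr' : (0 : ℚ) < r := by exact_mod_cast hr.pos
  let D := {w : Ω // x • w = w ∧ ¬ y • w = w}
  -- the powers of `y` in a stabilizer
  have hst : ∀ (w : Ω) (i : ℕ), ¬ y • w = w → y ^ i • w = w → r ∣ i := by
    intro w i hw hi
    by_contra hri
    have hc : Nat.Coprime r i := (Nat.Prime.coprime_iff_not_dvd hr).2 hri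
    apply hw
    have h1 : y ∈ Subgroup.closure {y ^ i, y ^ r} := by
      have h2 : (Int.gcd r i : ℤ) = r * Int.gcdA r i + i * Int.gcdB r i := Int.gcd_eq_gcd_ab r i
      have h3 : Int.gcd r i = 1 := by
        rw [Int.gcd_natCast_natCast]; exact hc
      rw [h3] at h2
      have h4 : y = (y ^ r) ^ Int.gcdA r i * (y ^ i) ^ Int.gcdB r i := by
        rw [← zpow_natCast y r, ← zpow_natCast y i, ← zpow_mul, ← zpow_mul, ← zpow_add, ← h2]
        simp
      have m1 : y ^ r ∈ Subgroup.closure {y ^ i, y ^ r} := Subgroup.subset_closure (Set.mem_insert_of_mem _ rfl)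
      have m2 : y ^ i ∈ Subgroup.closure {y ^ i, y ^ r} := Subgroup.subset_closure (Set.mem_insert _ _)
      have m3 := mul_mem (zpow_mem m1 (Int.gcdA r i)) (zpow_mem m2 (Int.gcdB r i))
      rwa [← h4] at m3
    have h5 : Subgroup.closure {y ^ i, y ^ r} ≤ stabilizer G w := by
      rw [Subgroup.closure_le]
      rintro z (rfl | rfl)
      · exact hi
      · rw [hy]; exact one_mem _
    exact h5 h1
  have hxi : ∀ i : ℕ, x * y ^ i * x⁻¹ = y ^ (a * i) := by
    intro i
    rw [← conj_pow, h, ← pow_mul]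
  -- injection
  have hinj : r * Nat.card D ≤ Nat.card Ω := by
    have hcd : r * Nat.card D = Nat.card (Fin r × D) := by rw [Nat.card_prod, Nat.card_fin]
    rw [hcd]
    refine Nat.card_le_card_of_injective (fun q : Fin r × D => y ^ (q.1 : ℕ) • q.2.1) ?_
    rintro ⟨i, w, hw1, hw2⟩ ⟨j, v, hv1, hv2⟩ hab
    change y ^ (i : ℕ) • w = y ^ (j : ℕ) • v at hab
    have hi := i.2
    have hj := j.2
    -- `w = y ^ t v`
    obtain ⟨t, ht⟩ : ∃ t : ℕ, w = y ^ t • v := by
      refine ⟨(r - (i : ℕ)) + j, ?_⟩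
      rw [pow_add, mul_smul, ← hab, smul_smul, ← pow_add, Nat.sub_add_cancel hi.le, hy, one_smul]
    have h1 : y ^ (a * t) • v = y ^ t • v := by
      have h2 : x • y ^ t • v = y ^ t • v := by rw [← ht]; exact hw1
      have h3 : x • y ^ t • v = y ^ (a * t) • v := by
        rw [← hxi, mul_smul, mul_smul, inv_smul_eq_iff.2 hv1.symm]
      rw [← h3, h2]
    have h4 : r ∣ t := by
      -- (a - 1) t ≡ 0
      have h5 : ∀ s u : ℕ, y ^ s • v = y ^ u • v → s ≡ u [MOD r] := by
        intro s u hsu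
        rcases le_total s u with hle | hle
        · obtain ⟨d, rfl⟩ := Nat.exists_eq_add_of_le hle
          rw [pow_add, mul_smul] at hsu
          have h6 : y ^ d • v = v := (smul_left_cancel _ hsu).symm
          have h7 := hst v d hv2 h6
          exact ((Nat.modEq_iff_dvd' (Nat.le_add_right _ _)).2 (by simpa using h7))
        · obtain ⟨d, rfl⟩ := Nat.exists_eq_add_of_le hle
          rw [pow_add, mul_smul] at hsu
          have h6 : y ^ d • v = v := smul_left_cancel _ hsu
          have h7 := hst v d hv2 h6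
          exact ((Nat.modEq_iff_dvd' (Nat.le_add_right _ _)).2 (by simpa using h7)).symm
      have h8 := h5 _ _ h1
      by_contra hrt
      have hc : Nat.gcd r t = 1 := (Nat.Prime.coprime_iff_not_dvd hr).2 hrt
      apply ha
      exact Nat.ModEq.cancel_right_of_coprime hc (by simpa using h8)
    have h9 : w = v := by
      obtain ⟨c, rfl⟩ := h4
      rw [ht, pow_mul, hy, one_pow, one_smul]
    subst h9
    have h10 : (i : ℕ) ≡ j [MOD r] := by
      rcases le_total (i : ℕ) j with hle | hle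
      · obtain ⟨d, hd⟩ := Nat.exists_eq_add_of_le hle
        rw [hd, pow_add, mul_smul] at hab
        have h6 : y ^ d • w = w := (smul_left_cancel _ hab).symm
        have h7 := hst w d hw2 h6
        rw [hd]
        exact ((Nat.modEq_iff_dvd' (Nat.le_add_right _ _)).2 (by simpa using h7))
      · obtain ⟨d, hd⟩ := Nat.exists_eq_add_of_le hle
        rw [hd, pow_add, mul_smul] at hab
        have h6 : y ^ d • w = w := smul_left_cancel _ hab
        have h7 := hst w d hw2 h6
        rw [hd]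
        exact ((Nat.modEq_iff_dvd' (Nat.le_add_right _ _)).2 (by simpa using h7)).symm
    have h11 : (i : ℕ) = j := by
      have := h10
      rw [Nat.ModEq, Nat.mod_eq_of_lt hi, Nat.mod_eq_of_lt hj] at this
      exact this
    have h12 : i = j := Fin.ext h11
    subst h12
    rfl
  have hsplit : Nat.card (fixedBy Ω x) ≤ Nat.card (fixedBy Ω y) + Nat.card D := by
    rw [← Nat.card_sum]
    refine Nat.card_le_card_of_injective (fun w : fixedBy Ω x =>
      if hw : y • w.1 = w.1 then Sum.inl (⟨w.1, hw⟩ : fixedBy Ω y) else Sum.inr (⟨w.1, w.2, hw⟩ : D)) ?_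
    intro u v huv
    by_cases hu : y • u.1 = u.1 <;> by_cases hv : y • v.1 = v.1
    · simp only [hu, hv, dite_true] at huv
      injection huv with huv
      exact Subtype.ext (congrArg (fun q : fixedBy Ω y => (q : Ω)) huv)
    · simp only [hu, hv, dite_true, dite_false, reduceCtorEq] at huv
    · simp only [hu, hv, dite_true, dite_false, reduceCtorEq] at huv
    · simp only [hu, hv, dite_false] at huv
      injection huv with huv
      exact Subtype.ext (congrArg (fun q : D => (q : Ω)) huv)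
  have h1 : (r : ℚ) * Nat.card D ≤ Nat.card Ω := by exact_mod_cast hinj
  have h2 : (Nat.card (fixedBy Ω x) : ℚ) ≤ Nat.card (fixedBy Ω y) + Nat.card D := by exact_mod_cast hsplit
  have h3 : (Nat.card D : ℚ) / Nat.card Ω ≤ 1 / r := by
    rw [div_le_div_iff₀ hn hr']
    linarith
  calc fpr Ω x ≤ ((Nat.card (fixedBy Ω y) : ℚ) + Nat.card D) / Nat.card Ω := div_le_div_of_nonneg_right h2 hn.le
    _ = fpr Ω y + (Nat.card D : ℚ) / Nat.card Ω := add_div _ _ _
    _ ≤ fpr Ω y + 1 / r := by linarith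

/-- a cover has fixed point ratios of sum at least one -/
theorem one_le_sum [Finite Ω] [Nonempty Ω] {ι : Type*} [Fintype ι] {x : ι → G} (hc : Cov Ω x) : 1 ≤ ∑ i, fpr Ω (x i) := by
  classical
  have hn : (0 : ℚ) < Nat.card Ω := by exact_mod_cast (Nat.card_pos : 0 < Nat.card Ω)
  have h1 : Nat.card Ω ≤ ∑ i, Nat.card (fixedBy Ω (x i)) := by
    rw [← Nat.card_sigma]
    choose f hf using hc
    exact Nat.card_le_card_of_injective (fun w : Ω => (⟨f w, ⟨w, hf w⟩⟩ : Σ i, fixedBy Ω (x i))) fun a b hab =>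
      congrArg (fun q : Σ i, fixedBy Ω (x i) => (q.2 : Ω)) hab
  unfold fpr
  rw [← Finset.sum_div, le_div_iff₀ hn, one_mul]
  exact_mod_cast h1

/-- a cover with small fixed point ratios -/
theorem dead_of_sum [Finite Ω] [Nonempty Ω] {ι : Type*} [Fintype ι] {x : ι → G} (hc : Cov Ω x) (β : ι → ℚ)
    (hβ : ∀ i, fpr Ω (x i) ≤ β i) (h : ∑ i, β i < 1) : False :=
  absurd ((one_le_sum hc).trans (Finset.sum_le_sum fun i _ => hβ i)) (not_le.2 h)

/-- the fixed point ratio depends on the cyclic group only -/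
theorem fpr_zpow {x y : G} (h1 : x ∈ Subgroup.zpowers y) (h2 : y ∈ Subgroup.zpowers x) : fpr Ω x = fpr Ω y := by
  have : fixedBy Ω x = fixedBy Ω y := by
    ext ω
    constructor
    · intro h
      exact (Subgroup.zpowers_le.2 (show x ∈ stabilizer G ω from h)) h2
    · intro h
      exact (Subgroup.zpowers_le.2 (show y ∈ stabilizer G ω from h)) h1
  rw [fpr, fpr, this]

/-- a power has more fixed points -/
theorem fpr_le_of_mem [Finite Ω] {x y : G} (h : y ∈ Subgroup.zpowers x) : fpr Ω x ≤ fpr Ω y := by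
  have h1 : Nat.card (fixedBy Ω x) ≤ Nat.card (fixedBy Ω y) :=
    Nat.card_mono (Set.toFinite _) fun ω hω => (Subgroup.zpowers_le.2 (show x ∈ stabilizer G ω from hω)) h
  unfold fpr
  exact div_le_div_of_nonneg_right (by exact_mod_cast h1) (Nat.cast_nonneg _)

end fpr

/-! ### Simple groups without outer automorphisms -/

section inner

/-- every proper subgroup has index at least `m` -/
def MinIx (S : Type) [Group S] (m : ℕ) : Prop := ∀ H : Subgroup S, H ≠ ⊤ → m ≤ H.index

theorem MinIx.big {S : Type} [Group S] [Finite S] {m : ℕ} (h : MinIx S m) {Ω : Type} [MulAction S Ω]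
    (hE : Env S Ω (⊤ : Subgroup S)) : Big Ω (⊤ : Subgroup S) m := by
  intro ω
  have h1 : stabilizer S ω ≠ ⊤ := fun h => hE.nofix ω (by rw [h])
  have h2 : Nat.card (orbit (⊤ : Subgroup S) ω) = (stabilizer S ω).index := by
    rw [Subgroup.index, Nat.card_congr (orbitEquivQuotientStabilizer S ω).symm]
    congr 2
    ext w
    constructor
    · rintro ⟨⟨g, -⟩, rfl⟩
      exact ⟨g, rfl⟩
    · rintro ⟨g, rfl⟩
      exact ⟨⟨g, trivial⟩, rfl⟩
  rw [h2]
  exact h _ h1

/-- `x` has fixed point ratio at most `b` on every admissible `S`-set -/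
def FB (S : Type) [Group S] (x : S) (b : ℚ) : Prop :=
  ∀ (Ω : Type) [Finite Ω] [Nonempty Ω] [MulAction S Ω], Env S Ω (⊤ : Subgroup S) → fpr Ω x ≤ b

variable {S : Type} [Group S] {x y : S} {b b' : ℚ}

theorem FB.mono (h : FB S x b) (hb : b ≤ b') : FB S x b' := fun Ω _ _ _ hE => (h Ω hE).trans hb

theorem FB.conj (h : FB S x b) (c : S) : FB S (c * x * c⁻¹) b := fun Ω _ _ _ hE => by
  rw [fpr_conj]; exact h Ω hE

theorem FB.isConj (h : FB S x b) (hc : IsConj x y) : FB S y b := by
  obtain ⟨c, rfl⟩ := isConj_iff.1 hc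
  exact h.conj c

/-- from a power of `x` -/
theorem FB.of_mem (h : FB S y b) (hy : y ∈ Subgroup.zpowers x) : FB S x b := fun Ω _ _ _ hE =>
  (fpr_le_of_mem hy).trans (h Ω hE)

theorem FB.F1 [Finite S] {m c : ℕ} (hm : 0 < m) (hI : MinIx S m)
    (hc : Nat.card ↥(Subgroup.centralizer ({x} : Set S)) ≤ c) : FB S x (c / m) := by
  intro Ω _ _ _ hE
  refine (Cfsg.Agent.H345.RG.F1 hm (hI.big hE) inferInstance x).trans ?_
  have h1 : Nat.card ↥((⊤ : Subgroup S) ⊓ Subgroup.centralizer ({x} : Set S)) ≤ c := by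
    rw [top_inf_eq]; exact hc
  have hm' : (0 : ℚ) < m := by exact_mod_cast hm
  exact div_le_div_of_nonneg_right (by exact_mod_cast h1) hm'.le

theorem FB.F2 [Finite S] {m : ℕ} (hm : 0 < m) (hI : MinIx S m) {p : ℕ} (hp : p.Prime) (hx : x ^ p = 1) (hx1 : x ≠ 1)
    (L : List S) (hL : L ≠ []) (h : Gen x L = ⊤) : FB S x (1 - p * (1 - 1 / m) / (L.length * (p - 1))) := by
  intro Ω _ _ _ hE
  exact Cfsg.Agent.H345.RG.F2 hm (hI.big hE) hp hx hx1 L hL (by rw [h])

theorem FB.F3 {r a : ℕ} (hr : r.Prime) (hy : y ^ r = 1) (h : x * y * x⁻¹ = y ^ a)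
    (ha : ¬ a ≡ 1 [MOD r]) (hb : FB S y b) : FB S x (b + 1 / r) := by
  intro Ω _ _ _ hE
  refine (Cfsg.Agent.H345.RG.F3 hr hy h ha).trans ?_
  have := hb Ω hE
  linarith

/-- a commuting family of elements of different prime orders has a product of order `∏ r i` -/
theorem exists_prod {ι : Type*} [Fintype ι] {x : ι → S} {r : ι → ℕ} (hx : PF x r) :
    ∃ g : S, orderOf g = ∏ i, r i ∧ ∀ i, x i ∈ Subgroup.zpowers g := by
  classical
  have key : ∀ s : Finset ι, ∃ g ∈ Subgroup.closure (Set.range x), orderOf g = ∏ i ∈ s, r i ∧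
      ∀ i ∈ s, x i ∈ Subgroup.zpowers g := by
    intro s
    induction s using Finset.induction_on with
    | empty => exact ⟨1, one_mem _, by simp, by simp⟩
    | insert i s hi ih =>
      obtain ⟨g, hg, ho, hm⟩ := ih
      have hcomm : Commute (x i) g := by
        refine Subgroup.closure_induction (p := fun g _ => Commute (x i) g) ?_ (Commute.one_right _)
          (fun a b _ _ ha hb => ha.mul_right hb) (fun a _ ha => ha.inv_right) hg
        rintro _ ⟨j, rfl⟩
        exact hx.comm i j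
      have hoi : orderOf (x i) = r i := by
        have := Fact.mk (hx.prime i)
        exact orderOf_eq_prime (hx.pow i) (hx.ne i)
      have hcop : Nat.Coprime (orderOf (x i)) (orderOf g) := by
        rw [hoi, ho]
        refine Nat.Coprime.prod_right fun j hj => ?_
        rw [Nat.coprime_primes (hx.prime i) (hx.prime j)]
        exact fun h => hi (by rw [hx.inj h]; exact hj)
      have hmul := hcomm.orderOf_mul_eq_mul_orderOf_of_coprime hcop
      refine ⟨x i * g, mul_mem (Subgroup.subset_closure ⟨i, rfl⟩) hg, ?_, ?_⟩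
      · rw [hmul, hoi, ho, Finset.prod_insert hi]
      · -- both factors are powers of the product
        have hpow : ∀ k : ℕ, (x i * g) ^ k = x i ^ k * g ^ k := fun k => hcomm.mul_pow k
        have h1 : x i ∈ Subgroup.zpowers (x i * g) := by
          have h3 : x i ^ orderOf g ∈ Subgroup.zpowers (x i * g) := by
            have := Subgroup.pow_mem _ (Subgroup.mem_zpowers (x i * g)) (orderOf g)
            rwa [hpow, pow_orderOf_eq_one, mul_one] at this
          have h4 : x i ∈ Subgroup.zpowers (x i ^ orderOf g) := by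
            obtain ⟨k, hk⟩ := exists_pow_eq_self_of_coprime hcop.symm
            have h5 := Subgroup.pow_mem _ (Subgroup.mem_zpowers (x i ^ orderOf g)) k
            rwa [hk] at h5
          exact (Subgroup.zpowers_le.2 h3) h4
        have h2 : g ∈ Subgroup.zpowers (x i * g) := by
          have : (x i)⁻¹ * (x i * g) ∈ Subgroup.zpowers (x i * g) := mul_mem (inv_mem h1) (Subgroup.mem_zpowers _)
          rwa [inv_mul_cancel_left] at this
        intro j hj
        rcases Finset.mem_insert.1 hj with rfl | hj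
        · exact h1
        · exact (Subgroup.zpowers_le.2 h2) (hm j hj)
  obtain ⟨g, -, ho, hm⟩ := key Finset.univ
  exact ⟨g, ho, fun i => hm i (Finset.mem_univ i)⟩

/-- **`NoCov` from bounds depending on the prime** : `S` with all automorphisms inner, `β p` a bound for the fixed point
ratios of the elements of order `p`; for every `g` of squarefree order `∏ p ∈ s, p`, `|s| ≥ 2`, the sum of `β` over `s` is
less than one -/
theorem noCov_of_fpr [Finite S] (hin : ∀ α : MulAut S, ∃ s, α = MulAut.conj s) (β : ℕ → ℚ)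
    (hβ : ∀ (p : ℕ) (x : S), p.Prime → x ^ p = 1 → x ≠ 1 → FB S x (β p))
    (hs : ∀ s : Finset ℕ, (∀ p ∈ s, p.Prime) → 2 ≤ s.card → (∃ g : S, orderOf g = ∏ p ∈ s, p) →
      ∑ p ∈ s, β p < 1) : NoCov S := by
  classical
  refine Cfsg.Agent.H867.RC.noCov_of_inner hin fun Ω _ _ _ hE ι _ x r hx hc _ => ?_
  have : Fintype ι := Fintype.ofFinite ι
  by_cases hι : 2 ≤ Fintype.card ι
  · refine dead_of_sum hc (fun i => β (r i)) (fun i => hβ _ _ (hx.prime i) (hx.pow i) (hx.ne i) Ω hE) ?_
    obtain ⟨g, hg, -⟩ := exists_prod hx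
    have h1 := hs (Finset.univ.image r) (by
      intro p hp
      obtain ⟨i, -, rfl⟩ := Finset.mem_image.1 hp
      exact hx.prime i) (by
      rw [Finset.card_image_of_injective _ hx.inj, Finset.card_univ]
      exact hι) ⟨g, by rw [hg, Finset.prod_image fun a _ b _ h => hx.inj h]⟩
    rwa [Finset.sum_image fun a _ b _ h => hx.inj h] at h1
  · -- at most one member
    obtain ⟨ω₀⟩ := (inferInstance : Nonempty Ω)
    obtain ⟨i, hi⟩ := hc ω₀
    have hsub : ∀ j, j = i := by
      have : Fintype.card ι ≤ 1 := by omega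
      exact fun j => Fintype.card_le_one_iff.1 this j i
    apply hx.ne i
    have : Nonempty Ω := ⟨ω₀⟩
    refine hE.single fun ω => ?_
    obtain ⟨j, hj⟩ := hc ω
    rwa [hsub j] at hj

end inner

end Cfsg.Agent.H345.RG
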