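import Cfsg.Agent.H345.RG.Co2K
import Cfsg.Agent.H633.Ore.Co2Cover
import Cfsg.Agent.H966.Gen.CoTwoF
import Cfsg.Agent.H285.IF.CoTwoA
import Cfsg.Agent.H867.SporMI
import Cfsg.Agent.H973.RG.Ix
import Cfsg.Agent.H31.RC.Spor.Gen

/-!
# `Co2`: classes of elements of small order and fixed point ratios (helper345, S3509)
-/

set_option autoImplicit false
set_option maxRecDepth 100000

namespace Cfsg.Agent.H345.RG.Co2A

open Cfsg Subgroup Cfsg.Agent.H633.Ore Cfsg.Agent.H633.Ore.Co2 Cfsg.Agent.H106.RC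

abbrev G : Type := Spor.Co2

/-! ### class cover with invariants -/

/-- conjugate to the word or to its inverse -/
def CW (w : List ℕ) (g : G) : Prop := IsConj (wd w) g ∨ IsConj (wd w)⁻¹ g

theorem cls (g : G) : ∃ d ∈ data, ff g = d.k ∧ CW d.w g := by
  obtain ⟨w, hw, h⟩ := cover g
  rw [← reps_eq] at hw
  obtain ⟨d, hd, rfl⟩ := List.mem_map.1 hw
  refine ⟨d, hd, ?_, h⟩
  rw [← (data_good d hd).1]
  rcases h with h | h
  · obtain ⟨c, rfl⟩ := isConj_iff.1 h
    exact ff_conj c _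
  · obtain ⟨c, rfl⟩ := isConj_iff.1 h
    rw [ff_conj, ff_inv]

theorem FF_one (j : ℕ) : FF j (1 : G) = 2300 := by
  unfold FF
  rw [one_pow]
  have h4 : Nat.card {y : H843.IMC.Co2B.Y // (1 : G) • y = y} = Nat.card H843.IMC.Co2B.Y :=
    Nat.card_congr (Equiv.subtypeUnivEquiv fun y => one_smul _ y)
  rw [h4, H843.IMC.Co2B.card_Y]

theorem FF_pow {j : ℕ} {g h : G} (e : g ^ j = h) (k : ℕ) (hk : h ^ k = h) : FF j g = FF k h := by
  unfold FF
  rw [e, hk]

theorem FF_of_pow {j : ℕ} {g : G} (h : g ^ j = 1) : FF j g = 2300 := by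
  rw [← FF_one j]
  unfold FF
  rw [h, one_pow]

theorem CW.pow {w : List ℕ} {g : G} (h : CW w g) {k : ℕ} (hk : wd w ^ k = 1) : g ^ k = 1 := by
  rcases h with h | h
  · obtain ⟨c, rfl⟩ := isConj_iff.1 h
    rw [conj_pow, hk, mul_one, mul_inv_cancel]
  · obtain ⟨c, rfl⟩ := isConj_iff.1 h
    rw [conj_pow, inv_pow, hk, inv_one, mul_one, mul_inv_cancel]

theorem CW.nil {g : G} (h : CW [] g) : g = 1 := by
  have := h.pow (k := 1) (by rw [pow_one]; rfl)
  rwa [pow_one] at this

theorem cl2_chk : (data.all fun d => !(Nat.beq d.k.1 2300 && Nat.beq d.k.2.2.2.1 2300) ||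
    [([] : List ℕ), C0.w1, C0.w2, C0.w3].contains d.w) = true := by decide +kernel
theorem cl3_chk : (data.all fun d => !(Nat.beq d.k.2.2.1 2300 && Nat.beq d.k.2.2.2.2 2300) ||
    [([] : List ℕ), C0.w4, C0.w5].contains d.w) = true := by decide +kernel
theorem cl5_chk : (data.all fun d => !(Nat.beq d.k.2.2.2.1 2300 && Nat.beq d.k.2.2.2.2 2300) ||
    [([] : List ℕ), C2.w13, C2.w14].contains d.w) = true := by decide +kernel
theorem cl7_chk : (data.all fun d => !(Nat.beq d.k.2.1 2300) ||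
    [([] : List ℕ), C4.w21].contains d.w) = true := by decide +kernel
theorem cl30_chk : (data.all fun d => !(Nat.beq d.k.2.2.2.2 140 || Nat.beq d.k.2.2.2.2 52) ||
    [C0.w2, C0.w3, C3.w16, C3.w18, C3.w20, C5.w29, C6.w31, C10.w55].contains d.w) = true := by decide +kernel

theorem cls_of {P : ℕ × ℕ × ℕ × ℕ × ℕ → Bool} {L : List (List ℕ)} (h : (data.all fun d => !(P d.k) || L.contains d.w) = true)
    {g : G} (hg : P (ff g) = true) : ∃ w ∈ L, CW w g := by
  obtain ⟨d, hd, h1, h2⟩ := cls g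
  rw [List.all_eq_true] at h
  have h3 := h d hd
  rw [← h1, hg, Bool.not_true, Bool.false_or, List.contains_iff_mem] at h3
  exact ⟨d.w, h3, h2⟩

theorem cl2 {x : G} (hx : x ^ 2 = 1) (hx1 : x ≠ 1) : CW C0.w1 x ∨ CW C0.w2 x ∨ CW C0.w3 x := by
  obtain ⟨w, hw, h⟩ := cls_of (P := fun k => Nat.beq k.1 2300 && Nat.beq k.2.2.2.1 2300) cl2_chk (g := x) (by
    show (Nat.beq (FF 4 x) 2300 && Nat.beq (FF 10 x) 2300) = true
    rw [FF_of_pow (j := 4) (by rw [show 4 = 2 * 2 from rfl, pow_mul, hx, one_pow]),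
      FF_of_pow (j := 10) (by rw [show 10 = 2 * 5 from rfl, pow_mul, hx, one_pow])]
    rfl)
  simp only [List.mem_cons, List.not_mem_nil, or_false] at hw
  rcases hw with rfl | rfl | rfl | rfl
  · exact absurd h.nil hx1
  · exact Or.inl h
  · exact Or.inr (Or.inl h)
  · exact Or.inr (Or.inr h)

theorem cl3 {x : G} (hx : x ^ 3 = 1) (hx1 : x ≠ 1) : CW C0.w4 x ∨ CW C0.w5 x := by
  obtain ⟨w, hw, h⟩ := cls_of (P := fun k => Nat.beq k.2.2.1 2300 && Nat.beq k.2.2.2.2 2300) cl3_chk (g := x) (by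
    show (Nat.beq (FF 9 x) 2300 && Nat.beq (FF 15 x) 2300) = true
    rw [FF_of_pow (j := 9) (by rw [show 9 = 3 * 3 from rfl, pow_mul, hx, one_pow]),
      FF_of_pow (j := 15) (by rw [show 15 = 3 * 5 from rfl, pow_mul, hx, one_pow])]
    rfl)
  simp only [List.mem_cons, List.not_mem_nil, or_false] at hw
  rcases hw with rfl | rfl | rfl
  · exact absurd h.nil hx1
  · exact Or.inl h
  · exact Or.inr h

theorem cl5 {x : G} (hx : x ^ 5 = 1) (hx1 : x ≠ 1) : CW C2.w13 x ∨ CW C2.w14 x := by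
  obtain ⟨w, hw, h⟩ := cls_of (P := fun k => Nat.beq k.2.2.2.1 2300 && Nat.beq k.2.2.2.2 2300) cl5_chk (g := x) (by
    show (Nat.beq (FF 10 x) 2300 && Nat.beq (FF 15 x) 2300) = true
    rw [FF_of_pow (j := 10) (by rw [show 10 = 5 * 2 from rfl, pow_mul, hx, one_pow]),
      FF_of_pow (j := 15) (by rw [show 15 = 5 * 3 from rfl, pow_mul, hx, one_pow])]
    rfl)
  simp only [List.mem_cons, List.not_mem_nil, or_false] at hw
  rcases hw with rfl | rfl | rfl
  · exact absurd h.nil hx1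
  · exact Or.inl h
  · exact Or.inr h

theorem cl7 {x : G} (hx : x ^ 7 = 1) (hx1 : x ≠ 1) : CW C4.w21 x := by
  obtain ⟨w, hw, h⟩ := cls_of (P := fun k => Nat.beq k.2.1 2300) cl7_chk (g := x) (by
    show (Nat.beq (FF 7 x) 2300) = true
    rw [FF_of_pow hx]
    rfl)
  simp only [List.mem_cons, List.not_mem_nil, or_false] at hw
  rcases hw with rfl | rfl
  · exact absurd h.nil hx1
  · exact h

/-! ### centralizers -/

theorem card_cent_conj (c x : G) : Nat.card (centralizer ({c * x * c⁻¹} : Set G)) = Nat.card (centralizer ({x} : Set G)) := by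
  have e : (centralizer ({x} : Set G)).map (MulAut.conj c).toMonoidHom = centralizer ({c * x * c⁻¹} : Set G) := by
    ext y
    rw [mem_centralizer_singleton_iff]
    constructor
    · rintro ⟨u, hu, rfl⟩
      have hu' := mem_centralizer_singleton_iff.1 hu
      show (c * u * c⁻¹) * (c * x * c⁻¹) = (c * x * c⁻¹) * (c * u * c⁻¹)
      calc (c * u * c⁻¹) * (c * x * c⁻¹) = c * (u * x) * c⁻¹ := by group
        _ = c * (x * u) * c⁻¹ := by rw [hu']
        _ = _ := by group
    · intro hy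
      refine ⟨c⁻¹ * y * c, mem_centralizer_singleton_iff.2 ?_, ?_⟩
      · calc c⁻¹ * y * c * x = c⁻¹ * (y * (c * x * c⁻¹)) * c := by group
          _ = c⁻¹ * ((c * x * c⁻¹) * y) * c := by rw [hy]
          _ = _ := by group
      · show c * (c⁻¹ * y * c) * c⁻¹ = y
        group
  rw [← e]
  exact (Nat.card_congr ((centralizer ({x} : Set G)).equivMapOfInjective _ (MulAut.conj c).injective).toEquiv).symm

theorem card_cent_inv (x : G) : Nat.card (centralizer ({x⁻¹} : Set G)) = Nat.card (centralizer ({x} : Set G)) := by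
  congr 2
  ext y
  rw [mem_centralizer_singleton_iff, mem_centralizer_singleton_iff]
  constructor
  · intro h
    have h1 : Commute y x⁻¹ := h
    have := h1.inv_right
    rwa [inv_inv] at this
  · intro h
    exact (show Commute y x from h).inv_right

theorem CW.card {w : List ℕ} {g : G} (h : CW w g) :
    Nat.card (centralizer ({g} : Set G)) = Nat.card (centralizer ({wd w} : Set G)) := by
  rcases h with h | h
  · obtain ⟨c, rfl⟩ := isConj_iff.1 h
    rw [card_cent_conj]
  · obtain ⟨c, rfl⟩ := isConj_iff.1 h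
    rw [card_cent_conj, card_cent_inv]

theorem card_le_of_chkW {w : List ℕ} {N t : ℕ} {s : List Step} (h : chkW w N s = true) (ht : prodB s = t) :
    Nat.card (centralizer ({wd w} : Set G)) ≤ t := by
  rw [← ht]
  exact chkW_sound h _ fun x hx => mem_centralizer_singleton_iff.1 hx

open Cfsg.Agent.Co2Type.TData Cfsg.Agent.Co2Type.FactsD Cfsg.Agent.Co2Type.Co2Rels in
/-- class 2A -/
theorem exists_z : ∃ (Q : Subgroup G) (z : G), Cfsg.Agent.Co2Type.Quad.Large Q z ∧ CW C0.w1 z := by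
  refine ⟨_, _, KFacts.CoTwo.RLarge.large, ?_⟩
  have hL := KFacts.CoTwo.RLarge.large
  have hc := H285.IFCoTwoA.card_cz
  rcases cl2 (x := ge mz) (by rw [pow_two]; exact hL.z_sq) hL.z_ne with h | h | h
  · exact h
  · exfalso
    have h1 := card_le_of_chkW C0.k2 C0.b2
    rw [← h.card, hc] at h1
    norm_num at h1
  · exfalso
    have h1 := card_le_of_chkW C0.k3 C0.b3
    rw [← h.card, hc] at h1
    norm_num at h1

end Cfsg.Agent.H345.RG.Co2A
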