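import Cfsg.Agent.H345.RG.Fpr

/-!
# Fixed point ratios, second part (helper345, S3509 sporadic block)

* `F2z` : the conjugates `c x c⁻¹`, `c ∈ L`, of `x` (of order `p`) generate a group containing an element `z` of prime order
  `q` with `fpr z ≤ β`: `fpr x ≤ 1 - p (1 - ρ) / (k (p - 1))`, `ρ = (1 + (q - 1) β) / q`, `k = |L|`;
* `cov_replace` : replacement in covers: `c_j` commuting with all members but `x i₀`, `y` in the group generated by the
  `c_j x_{i₀} c_j⁻¹`: the family with `y` instead of `x i₀` is a cover.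
-/

set_option autoImplicit false

namespace Cfsg.Agent.H345.RG

open MulAction Cfsg.Agent.H106.RC

section

variable {G Ω : Type*} [Group G] [MulAction G Ω] {N : Subgroup G}

/-- **F2z** -/
theorem F2z [Finite Ω] [Nonempty Ω] [Finite G] {x : G} {p : ℕ} (hp : p.Prime) (hx : x ^ p = 1) (hx1 : x ≠ 1)
    (L : List G) (hL : L ≠ []) {z : G} {q : ℕ} (hq : q.Prime) (hz : z ^ q = 1) (hz1 : z ≠ 1) (h : z ∈ Gen x L)
    {β : ℚ} (hβ : fpr Ω z ≤ β) :
    fpr Ω x ≤ 1 - p * (1 - (1 + (q - 1) * β) / q) / (L.length * (p - 1)) := by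
  have h1 := nOrb_Gen (Ω := Ω) hp hx hx1 L hL
  have h2 : (nOrb Ω (Gen x L) : ℚ) ≤ nOrb Ω (Subgroup.zpowers z) := by
    exact_mod_cast nOrb_anti (Ω := Ω) (Subgroup.zpowers_le.2 h)
  have h3 := nOrb_zpowers (Ω := Ω) hq hz hz1
  have hn : (0 : ℚ) < Nat.card Ω := by exact_mod_cast (Nat.card_pos : 0 < Nat.card Ω)
  have hk : (0 : ℚ) < L.length := by exact_mod_cast List.length_pos_iff.2 hL
  have hp1 : (0 : ℚ) < (p : ℚ) - 1 := by
    have : (1 : ℚ) < p := by exact_mod_cast hp.one_lt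
    linarith
  have hq1 : (0 : ℚ) < (q : ℚ) - 1 := by
    have : (1 : ℚ) < q := by exact_mod_cast hq.one_lt
    linarith
  have hp0 : (0 : ℚ) < p := by linarith
  have hq0 : (0 : ℚ) < q := by linarith
  have h3' : (q : ℚ) * nOrb Ω (Subgroup.zpowers z) = Nat.card Ω + (q - 1) * Nat.card (fixedBy Ω z) := by
    have := congrArg (fun t : ℕ => (t : ℚ)) h3
    push_cast [Nat.cast_sub hq.one_lt.le] at this
    exact this
  have hfz : (Nat.card (fixedBy Ω z) : ℚ) ≤ β * Nat.card Ω := by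
    rw [fpr, div_le_iff₀ hn] at hβ
    exact hβ
  have h4 : (nOrb Ω (Gen x L) : ℚ) ≤ (1 + (q - 1) * β) / q * Nat.card Ω := by
    refine h2.trans ?_
    rw [div_mul_eq_mul_div, le_div_iff₀ hq0, mul_comm, h3']
    nlinarith [hfz, hq1]
  rw [fpr, div_le_iff₀ hn]
  have h5 : (L.length : ℚ) * ((Nat.card Ω : ℚ) + (p - 1) * Nat.card (fixedBy Ω x)) ≤
      p * (((L.length : ℚ) - 1) * Nat.card Ω + (1 + (q - 1) * β) / q * Nat.card Ω) :=
    h1.trans (mul_le_mul_of_nonneg_left (by linarith) hp0.le)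
  have h6 : (0 : ℚ) < L.length * (p - 1) := mul_pos hk hp1
  rw [← mul_le_mul_iff_right₀ h6]
  set ρ := (1 + ((q : ℚ) - 1) * β) / q with hρ
  have h7 : (L.length * ((p : ℚ) - 1)) * ((1 - p * (1 - ρ) / (L.length * (p - 1))) * Nat.card Ω) =
      (L.length * ((p : ℚ) - 1)) * Nat.card Ω - p * (1 - ρ) * Nat.card Ω := by
    field_simp
  rw [h7]
  nlinarith [h5]

/-- **replacement in covers** -/
theorem cov_replace {ι : Type*} {x : ι → G} (hc : Cov Ω x) (i₀ : ι) (L : List G)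
    (hL : ∀ c ∈ L, ∀ j, j ≠ i₀ → c * x j = x j * c) {y : G} (hy : y ∈ Gen (x i₀) L) (ω : Ω)
    (hω : ∀ j, j ≠ i₀ → x j • ω ≠ ω) : y • ω = ω := by
  have h1 : Gen (x i₀) L ≤ stabilizer G ω := by
    rw [Gen, Subgroup.closure_le]
    rintro _ ⟨c, hcL, rfl⟩
    obtain ⟨i, hi⟩ := hc (c⁻¹ • ω)
    have hii : i = i₀ := by
      by_contra hne
      apply hω i hne
      have h2 : c⁻¹ * x i = x i * c⁻¹ := by
        rw [inv_mul_eq_iff_eq_mul, ← mul_assoc, hL c hcL i hne, mul_inv_cancel_right]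
      rw [← mul_smul, ← h2, mul_smul] at hi
      exact smul_left_cancel _ hi
    subst hii
    show (c * x i * c⁻¹) • ω = ω
    rw [mul_smul, mul_smul, hi, smul_inv_smul]
  exact h1 hy

/-- a member of the cover is a product of conjugates of another member by elements commuting with all others: it can be
omitted -/
theorem cov_drop {ι : Type*} {x : ι → G} (hc : Cov Ω x) (i₀ j₀ : ι) (hij : j₀ ≠ i₀) (L : List G)
    (hL : ∀ c ∈ L, ∀ j, j ≠ i₀ → c * x j = x j * c) (hy : x j₀ ∈ Gen (x i₀) L) :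
    Cov Ω (fun j : {j : ι // j ≠ i₀} => x j.1) := by
  intro ω
  by_contra hcon
  push Not at hcon
  exact hcon ⟨j₀, hij⟩ (cov_replace hc i₀ L hL hy ω fun j hj => hcon ⟨j, hj⟩)

end

section inner

variable {S : Type} [Group S] {x z : S} {b : ℚ}

theorem FB.F2z [Finite S] {p : ℕ} (hp : p.Prime) (hx : x ^ p = 1) (hx1 : x ≠ 1) (L : List S) (hL : L ≠ []) {q : ℕ}
    (hq : q.Prime) (hz : z ^ q = 1) (hz1 : z ≠ 1) (h : z ∈ Gen x L) (hb : FB S z b) :
    FB S x (1 - p * (1 - (1 + (q - 1) * b) / q) / (L.length * (p - 1))) := by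
  intro Ω _ _ _ hE
  exact Cfsg.Agent.H345.RG.F2z hp hx hx1 L hL hq hz hz1 h (hb Ω hE)

end inner

end Cfsg.Agent.H345.RG
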